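import Cfsg.Agent.Lib.EqualPrime77.Field.Basic

/-!
# Fused subgroups of prime order: counting involutions through a central kernel of odd order

Owner: helper77.
-/

set_option autoImplicit false
set_option linter.style.haveILetI false

universe u

namespace Cfsg.Agent.Lib.EqualPrime77.Field

open Subgroup

variable {G : Type u} [Group G]

/-- Involutions centralising `x` counted in a subgroup containing them all. -/
theorem card_involutions_subgroup {H : Subgroup G} (x : ↥H)
    (h : ∀ v : G, orderOf v = 2 → v * x = x * v → v ∈ H) :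
    Nat.card {v : ↥H // orderOf v = 2 ∧ v * x = x * v} =
      Nat.card {v : G // orderOf v = 2 ∧ v * x = x * v} := by
  refine Nat.card_congr
    { toFun := fun v => ⟨(v.1 : G), (Subgroup.orderOf_coe v.1).trans v.2.1, congrArg Subtype.val v.2.2⟩
      invFun := fun v => ⟨⟨v.1, h _ v.2.1 v.2.2⟩, by rw [Subgroup.orderOf_mk]; exact v.2.1,
        Subtype.ext v.2.2⟩
      left_inv := fun _ => rfl
      right_inv := fun _ => rfl }

/-- An involution lies in a normal subgroup of odd index. -/
theorem mem_of_odd_index {K : Subgroup G} [K.Normal] (hK : Odd K.index) {v : G}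
    (hv : orderOf v = 2) : v ∈ K := by
  have h1 := Subgroup.pow_index_mem K v
  obtain ⟨m, hm⟩ := hK
  rwa [hm, pow_succ, pow_mul, show v ^ 2 = 1 by rw [← hv]; exact pow_orderOf_eq_one v, one_pow,
    one_mul] at h1

variable [Finite G] {Q : Type u} [Group Q] (π : G →* Q)

/-- Involutions centralising `x` counted modulo a central kernel of odd order. -/
theorem card_involutions_map (hπ : Function.Surjective π) (hc : ∀ k ∈ π.ker, ∀ g : G, Commute k g)
    (ho : Odd (Nat.card π.ker)) (x : G) :
    Nat.card {v : G // orderOf v = 2 ∧ v * x = x * v} =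
      Nat.card {v : Q // orderOf v = 2 ∧ v * π x = π x * v} := by
  haveI : Fact (Nat.Prime 2) := ⟨Nat.prime_two⟩
  have hker : ∀ {k : G}, k ∈ π.ker → k * k = 1 → k = 1 := fun hk h =>
    Walter.JRBal.eq_one_of_sq_odd ho hk h
  have hsq : ∀ {v : G}, orderOf v = 2 → v * v = 1 := fun hv => by
    rw [← pow_two, ← hv]; exact pow_orderOf_eq_one _
  let f : {v : G // orderOf v = 2 ∧ v * x = x * v} → {v : Q // orderOf v = 2 ∧ v * π x = π x * v} :=
    fun v => ⟨π v.1, orderOf_eq_prime (by rw [← map_pow, pow_two, hsq v.2.1, map_one]) (fun h => by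
      have h1 := v.2.1
      rw [hker h (hsq v.2.1), orderOf_one] at h1
      norm_num at h1), by rw [← map_mul, ← map_mul, v.2.2]⟩
  refine Nat.card_congr (Equiv.ofBijective f ⟨fun v w h => Subtype.ext ?_, fun ⟨v', hv', hvx⟩ => ?_⟩)
  · have h1 : π v.1 = π w.1 := congrArg Subtype.val h
    set c := v.1⁻¹ * w.1 with hcdef
    have hck : c ∈ π.ker := by rw [MonoidHom.mem_ker, hcdef, map_mul, map_inv, h1, inv_mul_cancel]
    have hw : w.1 = v.1 * c := by rw [hcdef, mul_inv_cancel_left]
    have h2 := hsq w.2.1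
    rw [hw, (hc c hck v.1).mul_mul_mul_comm, hsq v.2.1, one_mul] at h2
    rw [hw, hker hck h2, mul_one]
  · obtain ⟨g, rfl⟩ := hπ v'
    obtain ⟨j, hj⟩ := ho
    have hv2 : π g * π g = 1 := by rw [← pow_two, ← hv']; exact pow_orderOf_eq_one _
    set v := g ^ Nat.card π.ker with hv
    have hvv : v * v = 1 := by
      have hg2 : g * g ∈ π.ker := by rw [MonoidHom.mem_ker, map_mul, hv2]
      rw [hv, ← (Commute.refl g).mul_pow]
      exact congrArg Subtype.val (pow_card_eq_one' (x := (⟨g * g, hg2⟩ : π.ker)))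
    have hπv : π v = π g := by
      rw [hv, map_pow, hj, pow_succ, pow_mul, pow_two, hv2, one_pow, one_mul]
    have hv1 : v ≠ 1 := fun h => by
      rw [← hπv, h, map_one, orderOf_one] at hv'
      norm_num at hv'
    set c := v * x * v⁻¹ * x⁻¹ with hcdef
    have hck : c ∈ π.ker := by
      rw [MonoidHom.mem_ker, hcdef, map_mul, map_mul, map_mul, map_inv, map_inv, hπv, hvx,
        mul_inv_cancel_right, mul_inv_cancel]
    have e1 : v * x * v⁻¹ = c * x := by rw [hcdef, inv_mul_cancel_right]
    have h2 : x = c * c * x := by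
      calc x = v * (v * x * v⁻¹) * v⁻¹ := by
            rw [show v * (v * x * v⁻¹) * v⁻¹ = v * v * x * (v * v)⁻¹ by group, hvv, one_mul, inv_one,
              mul_one]
        _ = v * c * x * v⁻¹ := by rw [e1]; group
        _ = c * (v * x * v⁻¹) := by rw [← (hc c hck v).eq]; group
        _ = c * c * x := by rw [e1]; exact (mul_assoc c c x).symm
    refine ⟨⟨v, orderOf_eq_prime (by rw [pow_two, hvv]) hv1, ?_⟩, Subtype.ext hπv⟩
    have hc1 : c = 1 := hker hck (mul_right_cancel (h2.symm.trans (one_mul x).symm))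
    exact mul_inv_eq_iff_eq_mul.1 (mul_inv_eq_one.1 hc1)

omit [Finite G] in
theorem Moves.coe {H : Subgroup G} {a w : ↥H} (h : Moves a w) : Moves (a : G) (w : G) := by
  refine ⟨fun e => h.1 (Subtype.ext e), ?_⟩
  obtain ⟨j, hj⟩ := mem_zpowers_iff.1 h.2
  exact mem_zpowers_iff.2 ⟨j, by rw [← Subgroup.coe_zpow, hj]; rfl⟩

/-- An element of prime order with a non-trivial automiser lifts through a central kernel. -/
theorem exists_moves_map [Finite Q] (hπ : Function.Surjective π)
    (hc : ∀ k ∈ π.ker, ∀ g : G, Commute k g) {a' w' : Q} {l : ℕ} (hl : l.Prime)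
    (hw : orderOf w' = l) (h : Moves a' w') : ∃ a w : G, orderOf w = l ∧ Moves a w := by
  obtain ⟨hne, hmem⟩ := h
  obtain ⟨k, hk⟩ := mem_powers_iff_mem_zpowers.2 hmem
  simp only at hk
  obtain ⟨a, rfl⟩ := hπ a'
  obtain ⟨y, rfl⟩ := hπ w'
  obtain ⟨w, hwo, hwm⟩ := exists_moves (a := a) (y := y) (Z := π.ker) (k := k) hl
    (fun z hz => ⟨hc z hz a, hc z hz y⟩)
    (by rw [MonoidHom.mem_ker, map_mul, map_inv, map_pow, map_mul, map_mul, map_inv, hk,
      inv_mul_cancel])
    (by rw [MonoidHom.mem_ker, map_pow, ← hw]; exact pow_orderOf_eq_one _)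
    (fun hy => hl.ne_one (by rw [← hw, MonoidHom.mem_ker.1 hy, orderOf_one]))
    (fun hd => hne (by
      rw [← hw, orderOf_dvd_iff_zpow_eq_one, zpow_sub, zpow_natCast, zpow_one, hk,
        mul_inv_eq_one] at hd
      exact hd))
  exact ⟨a, w, hwo, hwm⟩

end Cfsg.Agent.Lib.EqualPrime77.Field
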