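import Cfsg.Agent.Lib.EqualPrime77.Field.Basic
import Cfsg.Agent.Lib.Walter.KnownFacts

/-!
# Fused subgroups of prime order: the transfer

A field automorphism of prime order `l` in the centraliser of an involution of a group of Janko–Ree
type centralises a number of involutions divisible by `l`, and moves nothing.

Owner: helper77.
-/

set_option autoImplicit false
set_option linter.style.haveILetI false

universe u

namespace Cfsg.Agent.Lib.EqualPrime77.Field

open Subgroup Walter Walter.NoField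

variable {G : Type u} [Group G] [Finite G] {S : Sylow 2 G} {t : G} {E E₀ : Subgroup G}

/-- An element of the field part has trivial automiser. -/
theorem not_moves (C : Ctx S t E E₀) {z a : G} (hz : z ∈ fieldPart S) : ¬ Moves a z := fun h =>
  h.1 (C.conj_fieldPart_eq hz (zpowers_le.2 hz h.2) rfl).symm

/-- A conjugate of `z ∈ F` in `C(t)` is a conjugate under `C(t)`. -/
theorem exists_centralizer_conj (C : Ctx S t E E₀) {z c : G} (hz : z ∈ fieldPart S)
    (hc : c⁻¹ * z * c * t = t * (c⁻¹ * z * c)) :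
    ∃ h : G, h * t = t * h ∧ h * (c⁻¹ * z * c) * h⁻¹ = z := by
  haveI : Fact (Nat.Prime 2) := ⟨Nat.prime_two⟩
  set z' := c⁻¹ * z * c with hz'
  set D := centralizer ({z'} : Set G)
  have hTD : ((c⁻¹ • S : Sylow 2 G) : Subgroup G) ≤ D := by
    intro w hw
    rw [Sylow.coe_subgroup_smul] at hw
    obtain ⟨s, hs, rfl⟩ := hw
    refine mem_centralizer_singleton_iff.2 ?_
    show c⁻¹ * s * (c⁻¹)⁻¹ * z' = z' * (c⁻¹ * s * (c⁻¹)⁻¹)
    calc c⁻¹ * s * (c⁻¹)⁻¹ * z' = c⁻¹ * (s * z) * c := by rw [hz']; group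
      _ = c⁻¹ * (z * s) * c := by rw [comm_fieldPart_sylow hz hs]
      _ = _ := by rw [hz']; group
  have htD : t ∈ D := mem_centralizer_singleton_iff.2 hc.symm
  have hto : orderOf (⟨t, htD⟩ : ↥D) = 2 := by rw [Subgroup.orderOf_mk]; exact C.ord
  obtain ⟨R, hR⟩ := (IsPGroup.of_card (p := 2) (n := 1)
    (show Nat.card ↥(zpowers (⟨t, htD⟩ : ↥D)) = 2 ^ 1 by
      rw [Nat.card_zpowers, hto, pow_one])).exists_le_sylow
  obtain ⟨d, hd⟩ := MulAction.exists_smul_eq ↥D R ((c⁻¹ • S : Sylow 2 G).subtype hTD)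
  have h1 : d * ⟨t, htD⟩ * d⁻¹ ∈ ((c⁻¹ • S : Sylow 2 G).subtype hTD : Subgroup ↥D) := by
    rw [← hd, Sylow.coe_subgroup_smul]
    exact Subgroup.smul_mem_pointwise_smul (a := MulAut.conj d) _ _ (hR (mem_zpowers _))
  rw [Sylow.coe_subtype, mem_subgroupOf, Sylow.coe_subgroup_smul] at h1
  obtain ⟨s, hs, hse⟩ := h1
  change c⁻¹ * s * (c⁻¹)⁻¹ = (d : G) * t * (d : G)⁻¹ at hse
  have hs' : s = c * (d : G) * t * (c * (d : G))⁻¹ := by
    calc s = c * (c⁻¹ * s * (c⁻¹)⁻¹) * c⁻¹ := by group
      _ = _ := by rw [hse]; group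
  have hs1 : s ≠ 1 := by
    rw [hs']
    exact fun h => C.ne_one (conj_eq_one_iff.1 h)
  obtain ⟨n, hn, hns⟩ := C.exists_conj_of_mem hs hs1 C.mem C.ne_one
  refine ⟨n * c * d, ?_, ?_⟩
  · refine mul_inv_eq_iff_eq_mul.1 ?_
    calc n * c * (d : G) * t * (n * c * (d : G))⁻¹ = n * (c * d * t * (c * (d : G))⁻¹) * n⁻¹ := by group
      _ = t := by rw [← hs', hns]
  · have hdz : (d : G) * z' = z' * d := mem_centralizer_singleton_iff.1 d.2
    calc n * c * (d : G) * z' * (n * c * (d : G))⁻¹
        = n * c * ((d : G) * z') * (d : G)⁻¹ * c⁻¹ * n⁻¹ := by group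
      _ = n * c * (z' * (d : G)) * (d : G)⁻¹ * c⁻¹ * n⁻¹ := by rw [hdz]
      _ = n * z * n⁻¹ := by rw [hz']; group
      _ = z := by rw [C.comm_normalizer hn hz, mul_inv_cancel_right]

/-- The number of involutions centralised by an element of prime order `l` of `F` is a multiple
of `l`. -/
theorem dvd_card_commute (C : Ctx S t E E₀) {z : G} (hz : z ∈ fieldPart S) {l : ℕ} (hl : l.Prime)
    (ho : orderOf z = l) : l ∣ Nat.card {v : G // orderOf v = 2 ∧ v * z = z * v} := by
  classical
  haveI : Fact (Nat.Prime 2) := ⟨Nat.prime_two⟩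
  haveI := C.jr.simple
  set H := centralizer ({t} : Set G) with hH
  have hFH : fieldPart S ≤ H := fun f hf => mem_centralizer_singleton_iff.2 (C.comm_u hf)
  set N := (zpowers t ⊔ E₀).subgroupOf H with hN
  haveI : N.Normal := ⟨fun n hn h => mem_subgroupOf.2 (by
    have hht : (h : G) * t = t * h := mem_centralizer_singleton_iff.1 h.2
    have hle : (zpowers t ⊔ E₀).map (MulAut.conj (h : G)).toMonoidHom ≤ zpowers t ⊔ E₀ := by
      rw [Subgroup.map_sup, MonoidHom.map_zpowers]
      refine sup_le_sup (zpowers_le.2 ?_) ?_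
      · show (h : G) * t * (h : G)⁻¹ ∈ zpowers t
        rw [hht, mul_inv_cancel_right]
        exact mem_zpowers t
      · rintro _ ⟨e, he, rfl⟩
        exact C.conf.conj_E₀ hht he
    exact hle ⟨_, mem_subgroupOf.1 hn, rfl⟩)⟩
  set π := QuotientGroup.mk' N with hπ
  have hone : ∀ w : ↥H, (w : G) ∈ zpowers t ⊔ E₀ → π w = 1 := fun w hw =>
    (QuotientGroup.eq_one_iff w).2 (mem_subgroupOf.2 hw)
  have hrep : ∀ h : ↥H, ∃ f : ↥H, (f : G) ∈ fieldPart S ∧ π h = π f := by
    intro h
    obtain ⟨e, he, hhe⟩ := C.conf.decomp h (mem_centralizer_singleton_iff.1 h.2)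
    obtain ⟨e0, he0, f, hf, rfl⟩ := C.exists_mul he
    refine ⟨⟨f, hFH hf⟩, hf, ?_⟩
    have h1 : π (h * ⟨f, hFH hf⟩⁻¹) = 1 := by
      refine hone _ ?_
      show (h : G) * f⁻¹ ∈ _
      rcases hhe with hhe | hhe
      · rw [hhe, mul_inv_cancel_right]; exact mem_sup_right he0
      · rw [hhe, ← mul_assoc, mul_inv_cancel_right]
        exact mul_mem (mem_sup_left (mem_zpowers t)) (mem_sup_right he0)
    rwa [map_mul, map_inv, mul_inv_eq_one] at h1
  letI : CommGroup (↥H ⧸ N) := { (inferInstance : Group (↥H ⧸ N)) with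
    mul_comm := fun p q => by
      obtain ⟨a, rfl⟩ := QuotientGroup.mk'_surjective N p
      obtain ⟨b, rfl⟩ := QuotientGroup.mk'_surjective N q
      obtain ⟨f, hf, hfa⟩ := hrep a
      obtain ⟨f', hf', hfb⟩ := hrep b
      show π a * π b = π b * π a
      rw [hfa, hfb, ← map_mul, ← map_mul]
      exact congrArg π (Subtype.ext (C.comm_fieldPart hf hf')) }
  set zH : ↥H := ⟨z, hFH hz⟩ with hzH
  have hπz : orderOf (π zH) = l := by
    haveI : Fact l.Prime := ⟨hl⟩
    refine orderOf_eq_prime ?_ fun h => ?_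
    · rw [← map_pow, ← map_one π]
      exact congrArg π (Subtype.ext (by rw [← ho]; exact pow_orderOf_eq_one z))
    have hmem : z ∈ zpowers t ⊔ E₀ := mem_subgroupOf.1 ((QuotientGroup.eq_one_iff zH).1 h)
    have hle : zpowers t ≤ normalizer (E₀ : Set G) := zpowers_le.2 (mem_normalizer_fintype
      fun e he => C.conf.conj_E₀ rfl he)
    rw [← SetLike.mem_coe, coe_mul_of_left_le_normalizer_right _ _ hle] at hmem
    obtain ⟨w, hw, e0, he0, hwe⟩ := hmem
    simp only at hwe
    have hwE : w ∈ E := by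
      rw [show w = z * e0⁻¹ by rw [← hwe]; group]
      exact mul_mem (C.fieldPart_le hz) (inv_mem (C.conf.le he0))
    have hw1 : w = 1 := by
      rw [← mem_bot, ← C.cent.1.2.2.2.1]
      exact ⟨hw, hwE⟩
    have hz1 : z ∈ fieldPart S ⊓ E₀ := ⟨hz, by
      rw [show z = e0 by rw [← hwe, hw1, one_mul]]; exact he0⟩
    rw [C.fieldPart_inf, mem_bot] at hz1
    exact hl.ne_one (by rw [← ho, hz1, orderOf_one])
  -- the transfer is trivial
  have htriv : MonoidHom.transfer π z = 1 := by
    rcases Subgroup.Normal.eq_bot_or_eq_top (H := (MonoidHom.transfer π).ker) inferInstance with h | h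
    · exfalso
      obtain ⟨P⟩ : Nonempty (Sylow 2 G) := inferInstance
      refine Known.not_comm_of_four C.jr.simple
        ((show 4 ∣ 8 by norm_num).trans (C.jr.card_sylow P ▸ Subgroup.card_subgroup_dvd_card _)) ?_
      exact ⟨⟨fun a b => (MonoidHom.ker_eq_bot_iff _).1 h (by
        rw [map_mul, map_mul]; exact mul_comm _ _)⟩⟩
    · exact MonoidHom.mem_ker.1 (h ▸ mem_top z)
  haveI : Fintype (Quotient (MulAction.orbitRel (zpowers z) (G ⧸ H))) := Fintype.ofFinite _
  rw [MonoidHom.transfer_eq_prod_quotient_orbitRel_zpowers_quot] at htriv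
  let per : Quotient (MulAction.orbitRel (zpowers z) (G ⧸ H)) → ℕ := fun q =>
    Function.minimalPeriod (z • ·) q.out
  have hper : ∀ q, per q = 1 ∨ per q = l := fun q => hl.eq_one_or_self_of_dvd _
    (Function.IsPeriodicPt.minimalPeriod_dvd (by
      show (z • ·)^[l] q.out = q.out
      rw [smul_iterate]
      show z ^ l • q.out = q.out
      rw [← ho, pow_orderOf_eq_one, one_smul]))
  rw [Finset.prod_congr rfl (g := fun q => if per q = 1 then π zH else 1) (fun q _ => ?_),
    ← Finset.prod_filter, Finset.prod_const] at htriv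
  swap
  · rcases hper q with h | h
    · rw [if_pos h]
      set c := q.out.out with hc
      have hmem := QuotientGroup.out_conj_pow_minimalPeriod_mem H z q.out
      have hm : c⁻¹ * z * c ∈ H := by
        have : c⁻¹ * z ^ per q * c ∈ H := hmem
        rwa [h, pow_one] at this
      obtain ⟨g, hg, hgz⟩ := exists_centralizer_conj C hz (mem_centralizer_singleton_iff.1 hm)
      set gH : ↥H := ⟨g, mem_centralizer_singleton_iff.2 hg⟩
      have e : zH = gH * ⟨c⁻¹ * z ^ per q * c, hmem⟩ * gH⁻¹ := Subtype.ext (by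
        show z = g * (c⁻¹ * z ^ per q * c) * g⁻¹
        rw [h, pow_one, hgz])
      rw [e, map_mul, map_mul, map_inv, mul_comm (π gH), mul_inv_cancel_right]
    · rw [if_neg (by rw [h]; exact hl.ne_one), ← map_one π]
      refine congrArg π (Subtype.ext ?_)
      show q.out.out⁻¹ * z ^ per q * q.out.out = 1
      rw [h, ← ho, pow_orderOf_eq_one, mul_one, inv_mul_cancel]
  have hdvd := hπz ▸ orderOf_dvd_of_pow_eq_one htriv
  -- the fixed cosets correspond to the involutions
  refine hdvd.trans (dvd_of_eq ?_)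
  have hfix : ∀ q, per q = 1 → z • q.out = q.out := fun q h =>
    Function.minimalPeriod_eq_one_iff_isFixedPt.1 h
  let A : {q // per q = 1} → {c : G ⧸ H // z • c = c} := fun q => ⟨q.1.out, hfix q.1 q.2⟩
  have hA : Function.Bijective A := by
    refine ⟨fun p q h => Subtype.ext ?_, fun ⟨c, hc⟩ => ?_⟩
    · rw [← Quotient.out_eq p.1, ← Quotient.out_eq q.1]
      exact congrArg _ (congrArg Subtype.val h)
    · obtain ⟨⟨w, hw⟩, hwc⟩ := MulAction.mem_orbit_iff.1
        (MulAction.orbitRel_apply.1 (Quotient.mk_out c) :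
          (Quotient.mk (MulAction.orbitRel (zpowers z) (G ⧸ H)) c).out ∈
            MulAction.orbit (zpowers z) c)
      have hwz : w • c = c :=
        (zpowers_le.2 (show z ∈ MulAction.stabilizer G c from hc) hw : w ∈ MulAction.stabilizer G c)
      change w • c = _ at hwc
      rw [hwz] at hwc
      refine ⟨⟨Quotient.mk _ c, ?_⟩, Subtype.ext hwc.symm⟩
      show Function.minimalPeriod (z • ·) (Quotient.mk _ c).out = 1
      rw [← hwc]
      exact Function.minimalPeriod_eq_one_iff_isFixedPt.2 hc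
  let B : {c : G ⧸ H // z • c = c} → {v : G // orderOf v = 2 ∧ v * z = z * v} := fun c =>
    ⟨c.1.out * t * c.1.out⁻¹, by
      refine ⟨by rw [Involutions.Basic.orderOf_conj_eq]; exact C.ord, ?_⟩
      have h1 : ((z * c.1.out : G) : G ⧸ H) = (c.1.out : G ⧸ H) := by
        rw [← smul_eq_mul, ← MulAction.Quotient.smul_coe, QuotientGroup.out_eq']
        exact c.2
      rw [QuotientGroup.eq] at h1
      have h2 : Commute (c.1.out⁻¹ * z * c.1.out) t :=
        mem_centralizer_singleton_iff.1 (by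
          have := inv_mem h1
          simpa [mul_assoc] using this)
      have h3 := (h2.symm.map (MulAut.conj c.1.out).toMonoidHom).eq
      simpa [mul_assoc] using h3⟩
  have hB : Function.Bijective B := by
    refine ⟨fun c d h => Subtype.ext ?_, fun ⟨v, hv, hvz⟩ => ?_⟩
    · have h1 : c.1.out * t * c.1.out⁻¹ = d.1.out * t * d.1.out⁻¹ := congrArg Subtype.val h
      rw [← QuotientGroup.out_eq' c.1, ← QuotientGroup.out_eq' d.1, QuotientGroup.eq]
      refine mem_centralizer_singleton_iff.2 (mul_inv_eq_iff_eq_mul.1 ?_)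
      calc c.1.out⁻¹ * d.1.out * t * (c.1.out⁻¹ * d.1.out)⁻¹
          = c.1.out⁻¹ * (d.1.out * t * d.1.out⁻¹) * c.1.out := by group
        _ = t := by rw [← h1]; group
    · obtain ⟨g, hg⟩ := isConj_iff.1 (C.jr.conj t v C.ord hv)
      obtain ⟨⟨h, hh⟩, hhe⟩ := QuotientGroup.mk_out_eq_mul H g
      have hht : h * t = t * h := mem_centralizer_singleton_iff.1 hh
      have hv' : (g : G ⧸ H).out * t * (g : G ⧸ H).out⁻¹ = v := by
        rw [hhe, ← hg]
        calc g * h * t * (g * h)⁻¹ = g * (h * t) * h⁻¹ * g⁻¹ := by group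
          _ = g * t * g⁻¹ := by rw [hht]; group
      refine ⟨⟨(g : G ⧸ H), ?_⟩, Subtype.ext hv'⟩
      rw [MulAction.Quotient.smul_coe, smul_eq_mul, QuotientGroup.eq]
      refine mem_centralizer_singleton_iff.2 (mul_inv_eq_iff_eq_mul.1 ?_)
      rw [show (z * g)⁻¹ * g * t * ((z * g)⁻¹ * g)⁻¹ = g⁻¹ * (z⁻¹ * (g * t * g⁻¹) * z) * g by group, hg,
        show z⁻¹ * v * z = v by rw [mul_assoc, hvz, inv_mul_cancel_left], ← hg]
      group
  rw [← Nat.card_congr (Equiv.ofBijective _ hB), ← Nat.card_congr (Equiv.ofBijective _ hA),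
    Nat.card_eq_fintype_card, Fintype.card_subtype]

end Cfsg.Agent.Lib.EqualPrime77.Field
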