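import Cfsg.Agent.Lib.Walter.NoField.Centralizer
import Cfsg.Agent.Lib.SameOrderConj77.Ree
import Cfsg.Agent.Lib.EqualPrime77.Field.Lift
import Cfsg.Agent.Lib.EqualPrime77.Field.Transfer

/-!
# Fused subgroups of prime order: components of the centraliser of a field automorphism

Owner: helper77.
-/

set_option autoImplicit false
set_option linter.style.haveILetI false

universe u

namespace Cfsg.Agent.Lib.EqualPrime77.Field

open Subgroup Walter Walter.NoField JRCore
open Matrix (ProjectiveSpecialLinearGroup)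

variable {G : Type u} [Group G] [Finite G] {S : Sylow 2 G} {t : G} {E E₀ : Subgroup G}

/-- In a group of Janko–Ree type the involutions form one class. -/
theorem card_involutions (hJ : IsJR G) (ht : orderOf t = 2) :
    Nat.card {v : G // orderOf v = 2} * Nat.card ↥(centralizer ({t} : Set G)) = Nat.card G := by
  set H := centralizer ({t} : Set G) with hH
  let f : G ⧸ H → {v : G // orderOf v = 2} := fun c =>
    ⟨c.out * t * c.out⁻¹, by rw [Involutions.Basic.orderOf_conj_eq]; exact ht⟩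
  have hf : Function.Bijective f := by
    refine ⟨fun c d h => ?_, fun ⟨v, hv⟩ => ?_⟩
    · have h1 : c.out * t * c.out⁻¹ = d.out * t * d.out⁻¹ := congrArg Subtype.val h
      rw [← QuotientGroup.out_eq' c, ← QuotientGroup.out_eq' d, QuotientGroup.eq]
      refine mem_centralizer_singleton_iff.2 (mul_inv_eq_iff_eq_mul.1 ?_)
      calc c.out⁻¹ * d.out * t * (c.out⁻¹ * d.out)⁻¹
          = c.out⁻¹ * (d.out * t * d.out⁻¹) * c.out := by group
        _ = t := by rw [← h1]; group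
    · obtain ⟨g, hg⟩ := isConj_iff.1 (hJ.conj t v ht hv)
      obtain ⟨⟨h, hh⟩, hhe⟩ := QuotientGroup.mk_out_eq_mul H g
      have hht : h * t = t * h := mem_centralizer_singleton_iff.1 hh
      refine ⟨(g : G ⧸ H), Subtype.ext ?_⟩
      show (g : G ⧸ H).out * t * (g : G ⧸ H).out⁻¹ = v
      rw [hhe, ← hg]
      calc g * h * t * (g * h)⁻¹ = g * (h * t) * h⁻¹ * g⁻¹ := by group
        _ = g * t * g⁻¹ := by rw [hht]; group
  rw [← Nat.card_congr (Equiv.ofBijective f hf), Subgroup.card_eq_card_quotient_mul_card_subgroup H]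

/-- Modulo the core an element of odd order centralising `S` is a power of the generator of `F`. -/
theorem mem_zpowers_bar (C : Ctx S t E E₀) {x y : G} (hgen : fieldPart S = zpowers x)
    (hy : y ∈ fieldPart S) (hx : x ∈ centralizer ({y} : Set G))
    {q : Quo (centralizer ({y} : Set G))} (ho : Odd (orderOf q))
    (hq : ∀ s : G, ∀ hs : s ∈ centralizer ({y} : Set G), s ∈ (S : Subgroup G) →
      q * qm _ ⟨s, hs⟩ = qm _ ⟨s, hs⟩ * q) :
    q ∈ zpowers (qm _ ⟨x, hx⟩) := by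
  have hyS : y ∈ centralizer ((S : Subgroup G) : Set G) := fieldPart_le_centralizer S hy
  have hyo := odd_orderOf_mem (odd_fieldPart S) hy
  obtain ⟨g, rfl⟩ := qm_surjective _ q
  have hgS : (g : G) ∈ centralizer ((S : Subgroup G) : Set G) := mem_centralizer_iff.2 fun s hs =>
    (mul_inv_eq_iff_eq_mul.1 (Cent.conj_eq_of_qm C.jr hyS hyo g.2 hs hs
      (mul_inv_eq_iff_eq_mul.2 (hq s (Cent.sylow_le_centralizer hyS hs) hs)))).symm
  obtain ⟨f, hf, s, hs, hgfs⟩ := C.exists_mul_fieldPart hgS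
  obtain ⟨j, hj⟩ := mem_zpowers_iff.1 (hgen ▸ hf : f ∈ zpowers x)
  have hsC : s ∈ centralizer ({y} : Set G) := Cent.sylow_le_centralizer hyS hs
  set σ := qm _ (⟨s, hsC⟩ : ↥(centralizer ({y} : Set G))) with hσ
  set ξ := qm _ (⟨x, hx⟩ : ↥(centralizer ({y} : Set G))) with hξ
  have e : qm _ g = ξ ^ j * σ := by
    rw [hξ, hσ, ← map_zpow, ← map_mul]
    exact congrArg _ (Subtype.ext (by
      rw [Subgroup.coe_mul, Subgroup.coe_zpow]
      show (g : G) = x ^ j * s
      rw [hj, hgfs]))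
  have hcomm : Commute (ξ ^ j) σ := by
    rw [hξ, hσ, ← map_zpow]
    refine Commute.map (Subtype.ext ?_) _
    rw [Subgroup.coe_mul, Subgroup.coe_mul, Subgroup.coe_zpow]
    show x ^ j * s = s * x ^ j
    rw [hj]
    exact comm_fieldPart_sylow hf hs
  have hσ2 : σ * σ = 1 := by
    rw [hσ, ← map_mul, ← map_one (qm _)]
    exact congrArg _ (Subtype.ext (C.sq hs))
  obtain ⟨n, hn⟩ := ho
  have h1 := pow_orderOf_eq_one (qm _ g)
  rw [hn, e, hcomm.mul_pow, pow_succ σ, pow_mul σ, pow_two, hσ2, one_pow, one_mul] at h1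
  rw [e, eq_inv_of_mul_eq_one_right h1]
  exact mul_mem (zpow_mem (mem_zpowers ξ) _) (inv_mem (pow_mem (zpow_mem (mem_zpowers ξ) _) _))

/-- A component with trivial field part: it is of Ree type or `J₁`. -/
theorem component_cases (hO : PropOrder.{u}) (C : Ctx S t E E₀) {x y : G}
    (hgen : fieldPart S = zpowers x) (hy : y ∈ fieldPart S) (hx : x ∈ centralizer ({y} : Set G))
    {K : Subgroup (Quo (centralizer ({y} : Set G)))}
    (hTK : (quoSylow (Cent.sylow_le_centralizer (fieldPart_le_centralizer S hy)) : Subgroup _) ≤ K)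
    (hJR : IsJR ↥K)
    (hE₀ : ∀ v : ↥K, (v : Quo (centralizer ({y} : Set G))) =
        qm _ ⟨t, Cent.sylow_le_centralizer (fieldPart_le_centralizer S hy) C.mem⟩ →
      ∀ E' E₀' : Subgroup ↥K, IsJRCentralizer v E' E₀' → E₀'.map K.subtype = Cent.fixedBar E₀ y)
    (hdis : ∀ f ∈ zpowers (qm _ ⟨x, hx⟩), f ∈ K → f = 1)
    {F₀ : Type} [Field F₀] [Fintype F₀]
    (e : ↥(E₀ ⊓ centralizer ({y} : Set G)) ≃* ProjectiveSpecialLinearGroup (Fin 2) F₀)
    (h3 : 3 ≤ Fintype.card F₀) :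
    ((∃ i : ℕ, Fintype.card F₀ = 3 ^ i) ∧ ∃ a w : ↥K, orderOf w = 3 ∧ Moves a w) ∨
      ((Fintype.card F₀ = 4 ∨ Fintype.card F₀ = 5) ∧ Cfsg.IsJ1 ↥K ∧
        Nat.card {v : ↥K // orderOf v = 2} *
          (2 * Nat.card (ProjectiveSpecialLinearGroup (Fin 2) F₀)) = 175560) := by
  haveI : Fact (Nat.Prime 2) := ⟨Nat.prime_two⟩
  haveI : Fact (Nat.Prime 3) := ⟨Nat.prime_three⟩
  haveI := hJR.simple
  have hyS : y ∈ centralizer ((S : Subgroup G) : Set G) := fieldPart_le_centralizer S hy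
  have hSC := Cent.sylow_le_centralizer hyS
  have htK := hTK (qm_mem_quoSylow hSC C.mem)
  set v : ↥K := ⟨_, htK⟩ with hv
  have hv2 : orderOf v = 2 := by
    refine orderOf_eq_prime (Subtype.ext ?_) fun h => ?_
    · show qm _ ⟨t, hSC C.mem⟩ ^ 2 = 1
      rw [← map_pow, ← map_one (qm _)]
      exact congrArg _ (Subtype.ext (by
        show t ^ 2 = 1
        rw [pow_two, C.sq C.mem]))
    · exact qm_ne_one hSC C.mem C.ne_one (congrArg Subtype.val h)
  set T : Sylow 2 ↥K := (quoSylow hSC).subtype hTK with hT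
  obtain ⟨E', E₀', h'⟩ := hJR.centralizer v hv2
  have C' : Ctx T v E' E₀' := ⟨hJR, hv2, by
    rw [hT, Sylow.coe_subtype, mem_subgroupOf]
    exact qm_mem_quoSylow hSC C.mem, h'⟩
  have hF : fieldPart T = ⊥ := by
    refine (eq_bot_iff_forall _).2 fun f hf => Subtype.ext ?_
    refine hdis _ (mem_zpowers_bar C hgen hy hx ?_ fun s hs hsS => ?_) f.2
    · rw [Subgroup.orderOf_coe]
      exact odd_orderOf_mem (odd_fieldPart T) hf
    · have hm : (⟨_, hTK (qm_mem_quoSylow hSC hsS)⟩ : ↥K) ∈ (T : Subgroup ↥K) := by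
        rw [hT, Sylow.coe_subtype, mem_subgroupOf]
        exact qm_mem_quoSylow hSC hsS
      exact congrArg Subtype.val (comm_fieldPart_sylow hf hm)
  have hEE : E' = E₀' := C'.eq_iff_fieldPart.2 hF
  obtain ⟨d⟩ := Walter.prod_equiv hv2 h'.1
  obtain ⟨eL⟩ := Cent.fixedBar_equiv C.jr C.ord C.mem C.cent hyS
    (odd_orderOf_mem (odd_fieldPart S) hy)
  let ψ : ↥E' ≃* ProjectiveSpecialLinearGroup (Fin 2) F₀ :=
    ((MulEquiv.subgroupCongr hEE).trans (E₀'.equivMapOfInjective K.subtype K.subtype_injective)).trans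
      ((MulEquiv.subgroupCongr (hE₀ v rfl E' E₀' h')).trans (eL.symm.trans e))
  let φ := d.trans ((MulEquiv.refl _).prodCongr ψ)
  rcases hO ↥K (fun P p q => Subtype.ext (IsJR.comm_mem hJR P p.2 q.2)) F₀ h3 v hv2 ⟨φ⟩ with
    ⟨m, hm, hc, hcard⟩ | ⟨hq, hJ1⟩
  · refine Or.inl ⟨⟨_, hc⟩, v, ?_⟩
    obtain ⟨z, hz, hzi⟩ := SameOrderConj77.exists_inverted_three hJR.elementary hv2 φ hm hc hcard
    refine ⟨z, hz, fun h => ?_, ?_⟩
    · rw [hzi, inv_eq_iff_mul_eq_one, ← pow_two] at h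
      have h2 := orderOf_dvd_of_pow_eq_one h
      rw [hz] at h2
      norm_num at h2
    · rw [hzi]
      exact inv_mem (mem_zpowers z)
  · refine Or.inr ⟨hq, hJ1, ?_⟩
    rw [← hJ1.2, ← card_involutions hJR hv2, Nat.card_congr φ.toEquiv, Nat.card_prod,
      Nat.card_congr Multiplicative.toAdd, Nat.card_zmod]

end Cfsg.Agent.Lib.EqualPrime77.Field
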