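import Cfsg.Agent.Lib.EqualPrime77.Field.Basic

/-!
# Fused subgroups of prime order: a subgroup of order 7 with a non-trivial automiser

The automiser of a Sylow 2-subgroup of a group of Janko–Ree type has order 21.

Owner: helper77.
-/

set_option autoImplicit false
set_option linter.style.haveILetI false

universe u

namespace Cfsg.Agent.Lib.EqualPrime77.Field

open Subgroup Walter Walter.NoField

variable {G : Type u} [Group G] [Finite G] {S : Sylow 2 G} {t : G} {E E₀ : Subgroup G}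

theorem exists_moves_seven (C : Ctx S t E E₀) : ∃ a w : G, orderOf w = 7 ∧ Moves a w := by
  classical
  haveI : Fact (Nat.Prime 2) := ⟨Nat.prime_two⟩
  haveI : Fact (Nat.Prime 3) := ⟨Nat.prime_three⟩
  haveI : Fact (Nat.Prime 7) := ⟨by norm_num⟩
  obtain ⟨a, b, r, T, ha, hb⟩ := C.exists_tri
  set N := normalizer ((S : Subgroup G) : Set G) with hN
  set φ := (S : Subgroup G).normalizerMonoidHom with hφ
  have happ : ∀ (n : ↥N) (p : ↥(S : Subgroup G)), ((φ n p : ↥(S : Subgroup G)) : G) = n * p * (n : G)⁻¹ :=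
    fun _ _ => rfl
  set A := φ.range with hA
  have hsmul : ∀ (g : ↥A) (p : ↥(S : Subgroup G)), g • p = (g : MulAut _) p := fun _ _ => rfl
  set u₀ : ↥(S : Subgroup G) := ⟨t, C.mem⟩ with hu₀
  -- the orbit and the stabiliser
  have horb : MulAction.orbit (↥A) u₀ = ((⊤ : Subgroup ↥(S : Subgroup G)) : Set _) \ {1} := by
    ext p
    constructor
    · rintro ⟨⟨_, n, rfl⟩, rfl⟩
      refine ⟨mem_top _, fun h => C.ne_one (conj_eq_one_iff.1 (show (n : G) * t * (n : G)⁻¹ = 1 from
        congrArg Subtype.val (Set.mem_singleton_iff.1 h)))⟩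
    · rintro ⟨-, hp⟩
      obtain ⟨n, hn, he⟩ := C.exists_conj_of_mem C.mem C.ne_one p.2 (fun h => hp (Subtype.ext h))
      exact ⟨⟨_, ⟨n, hn⟩, rfl⟩, Subtype.ext he⟩
  have h7 : (MulAction.orbit (↥A) u₀).ncard = 7 := by
    rw [horb, Subgroup.coe_top, Set.ncard_sdiff_singleton_of_mem (Set.mem_univ _), Set.ncard_univ,
      C.jr.card_sylow S]
  set rb : ↥A := ⟨φ ⟨r, C.rot_mem_normalizer T ha hb⟩, _, rfl⟩ with hrb
  have hrb3 : orderOf rb = 3 := by
    refine orderOf_eq_prime (Subtype.ext (MulEquiv.ext fun p => Subtype.ext ?_)) fun h => ?_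
    · show (((φ ⟨r, _⟩) ^ 3) p : G) = p
      rw [pow_succ, pow_two, MulAut.mul_apply, MulAut.mul_apply, happ, happ, happ]
      exact C.rot_cube T ha hb p.2
    · have h1 : r * a * r⁻¹ = a := congrArg (fun g : ↥A => (((g : MulAut _) ⟨a, ha⟩ : ↥(S : Subgroup G)) : G)) h
      rw [T.ca, mul_eq_left] at h1
      exact Walter66.ne_one_of_ord T.hb h1
  have hstab : MulAction.stabilizer (↥A) u₀ = zpowers rb := by
    refine le_antisymm ?_ (zpowers_le.2 (Subtype.ext ?_))
    · rintro ⟨_, n, rfl⟩ hn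
      have hnt : (n : G) * t = t * n := mul_inv_eq_iff_eq_mul.1 (congrArg Subtype.val hn)
      obtain ⟨k, c, hc, hce⟩ := C.exists_rot_mul T ha hb n.2 hnt
      refine mem_zpowers_iff.2 ⟨-(k : ℤ), ?_⟩
      rw [zpow_neg, zpow_natCast]
      refine inv_eq_of_mul_eq_one_right (Subtype.ext (MulEquiv.ext fun p => Subtype.ext ?_))
      show (((φ ⟨r, _⟩) ^ k * φ n) p : G) = p
      rw [← map_pow, ← map_mul, happ]
      show r ^ k * (n : G) * p * (r ^ k * (n : G))⁻¹ = p
      rw [hce, ← (mem_centralizer_iff.1 hc p p.2), mul_inv_cancel_right]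
    · show r * t * r⁻¹ = t
      rw [C.rot_comm_u T, mul_inv_cancel_right]
  have h21 : Nat.card ↥A = 21 := by
    rw [← (MulAction.stabilizer (↥A) u₀).card_mul_index, MulAction.index_stabilizer, h7, hstab,
      Nat.card_zpowers, hrb3]
  obtain ⟨y, hy⟩ := exists_prime_orderOf_dvd_card' (G := ↥A) 7 (by rw [h21]; norm_num)
  haveI : (zpowers y).Normal := by
    refine normal_of_index_eq_minFac_card ?_
    have h := (zpowers y).card_mul_index
    rw [Nat.card_zpowers, hy, h21] at h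
    rw [h21, show Nat.minFac 21 = 3 by norm_num]
    omega
  obtain ⟨k, hk⟩ := mem_powers_iff_mem_zpowers.2
    ((inferInstance : (zpowers y).Normal).conj_mem y (mem_zpowers y) rb)
  simp only at hk
  have hk7 : ¬ (7 : ℤ) ∣ (k : ℤ) - 1 := fun h => by
    have hky : y ^ k = y := by
      rw [← mul_inv_eq_one, ← zpow_natCast]
      nth_rw 2 [← zpow_one y]
      rw [← zpow_sub, ← orderOf_dvd_iff_zpow_eq_one, hy]
      exact h
    rw [hky, eq_mul_inv_iff_mul_eq] at hk
    have hfix : rb • (y • u₀) = y • u₀ := by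
      have hrbu : rb • u₀ = u₀ := (hstab.ge (mem_zpowers rb) : rb ∈ MulAction.stabilizer (↥A) u₀)
      rw [← mul_smul, ← hk, mul_smul, hrbu]
    rcases C.rot_fix T ha hb (y • u₀).2 (congrArg Subtype.val hfix) with h1 | h1
    · have h2 : y • u₀ ∈ MulAction.orbit (↥A) u₀ := MulAction.mem_orbit _ _
      rw [horb] at h2
      exact h2.2 (Subtype.ext h1)
    · have h2 : y ∈ MulAction.stabilizer (↥A) u₀ := Subtype.ext h1
      rw [hstab] at h2
      have h3 := orderOf_dvd_of_mem_zpowers h2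
      rw [hy, hrb3] at h3
      norm_num at h3
  -- a complement of `S` in the normaliser
  set Sn := (S : Subgroup G).subgroupOf N with hSn
  have hSnd : ¬ 2 ∣ Sn.index := by
    have h := (S.subtype (le_normalizer : (S : Subgroup G) ≤ N)).not_dvd_index
    rwa [Sylow.coe_subtype] at h
  have hcop : Nat.Coprime (Nat.card Sn) Sn.index := by
    rw [hSn, Nat.card_congr (subgroupOfEquivOfLe le_normalizer).toEquiv, C.jr.card_sylow S,
      show (8 : ℕ) = 2 ^ 3 by norm_num]
    exact Nat.Coprime.pow_left 3 ((Nat.prime_two.coprime_iff_not_dvd).2 hSnd)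
  haveI : Sn.Normal := normal_in_normalizer
  obtain ⟨D, hD⟩ := Subgroup.exists_right_complement'_of_coprime hcop
  have hDodd : Odd (Nat.card ↥D) := by
    have h := hD.card_mul_card
    rw [← Sn.card_mul_index, mul_left_cancel_iff_of_pos Nat.card_pos] at h
    rw [h]
    exact Nat.odd_iff.2 (Nat.two_dvd_ne_zero.1 hSnd)
  have hsurj : ∀ g : ↥A, ∃ d ∈ D, φ d = g := by
    rintro ⟨_, n, rfl⟩
    obtain ⟨⟨⟨s, hs⟩, ⟨d, hd⟩⟩, he⟩ := hD.2 n
    refine ⟨d, hd, ?_⟩
    simp only at he
    show φ d = φ n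
    rw [← he, map_mul]
    have hs1 : φ s = 1 := MulEquiv.ext fun p => Subtype.ext (by
      rw [happ]
      show (s : G) * p * (s : G)⁻¹ = p
      rw [C.comm (mem_subgroupOf.1 hs) p.2, mul_inv_cancel_right])
    rw [hs1, one_mul]
  obtain ⟨dy, hdy, hdye⟩ := hsurj y
  obtain ⟨dr, hdr, hdre⟩ := hsurj rb
  have hker : ∀ d ∈ D, φ d = 1 → (d : G) ∈ fieldPart S := fun d hd h => by
    refine C.mem_fieldPart (mem_centralizer_iff.2 fun p hp => ?_) ?_
    · have h1 : (d : G) * p * (d : G)⁻¹ = p := by rw [← happ d ⟨p, hp⟩, h]; rfl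
      exact (mul_inv_eq_iff_eq_mul.1 h1).symm
    · rw [Subgroup.orderOf_coe]
      exact hDodd.of_dvd_nat (Subgroup.orderOf_dvd_natCard D hd)
  obtain ⟨w, hw, hwm⟩ := exists_moves (a := (dr : G)) (y := (dy : G)) (Z := fieldPart S) (k := k)
    (l := 7) (by norm_num)
    (fun z hz => ⟨(C.comm_normalizer dr.2 hz).symm, (C.comm_normalizer dy.2 hz).symm⟩)
    (hker ((dy ^ k)⁻¹ * (dr * dy * dr⁻¹)) (mul_mem (inv_mem (pow_mem hdy _))
      (mul_mem (mul_mem hdr hdy) (inv_mem hdr))) (by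
        rw [map_mul, map_inv, map_pow, map_mul, map_mul, map_inv, hdye, hdre, ← Subgroup.coe_pow,
          hk, Subgroup.coe_mul, Subgroup.coe_mul, Subgroup.coe_inv, inv_mul_cancel]))
    (hker (dy ^ 7) (pow_mem hdy _) (by
      rw [map_pow, hdye, ← Subgroup.coe_pow, ← hy, pow_orderOf_eq_one, Subgroup.coe_one]))
    (fun h => by
      have h1 : φ dy = 1 := MulEquiv.ext fun p => Subtype.ext (by
        rw [happ]
        show (dy : G) * p * (dy : G)⁻¹ = p
        rw [comm_fieldPart_sylow h p.2, mul_inv_cancel_right])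
      rw [hdye] at h1
      rw [show y = 1 from Subtype.ext h1, orderOf_one] at hy
      norm_num at hy)
    hk7
  exact ⟨_, w, hw, hwm⟩

end Cfsg.Agent.Lib.EqualPrime77.Field
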