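import Cfsg.Agent.Lib.EqualPrime77.Field.Root
import Cfsg.Agent.Lib.EqualPrime77.Field.Seven
import Cfsg.Agent.Lib.EqualPrime77.Field.Component
import Cfsg.Agent.Lib.Walter.KnownFactsJR
import Cfsg.Agent.Lib.BenderOne.Final

/-!
# Fused subgroups of prime order: no field automorphisms

In a group of Janko–Ree type with fused subgroups of prime order the centraliser of an involution
has no field automorphism.

Owner: helper77.
-/

set_option autoImplicit false
set_option linter.style.haveILetI false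

universe u

namespace Cfsg.Agent.Lib.EqualPrime77.Field

open Subgroup Walter Walter.NoField JRCore
open Matrix (ProjectiveSpecialLinearGroup SpecialLinearGroup)

/-- The order of `PSL(2,q)` determines the odd number `q`. -/
theorem card_inj {F₁ F₂ : Type} [Field F₁] [Fintype F₁] [Field F₂] [Fintype F₂]
    (h₁ : Odd (Fintype.card F₁)) (h₂ : Odd (Fintype.card F₂))
    (h : Nat.card (ProjectiveSpecialLinearGroup (Fin 2) F₁) =
      Nat.card (ProjectiveSpecialLinearGroup (Fin 2) F₂)) : Fintype.card F₁ = Fintype.card F₂ := by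
  have e₁ := Linear.two_mul_card_PSL_two_of_odd h₁
  have e₂ := Linear.two_mul_card_PSL_two_of_odd h₂
  rw [h, e₂] at e₁
  have hmono : ∀ a b : ℕ, 2 ≤ b → a < b → a * (a - 1) * (a + 1) < b * (b - 1) * (b + 1) := fun a b hb hab =>
    Nat.mul_lt_mul_of_lt_of_le (Nat.mul_lt_mul_of_lt_of_le hab (by omega) (by omega)) (by omega)
      (by omega)
  have h2₁ : 2 ≤ Fintype.card F₁ := Fintype.one_lt_card
  have h2₂ : 2 ≤ Fintype.card F₂ := Fintype.one_lt_card
  rcases lt_trichotomy (Fintype.card F₁) (Fintype.card F₂) with hlt | heq | hlt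
  · exact absurd e₁ (hmono _ _ h2₂ hlt).ne'
  · exact heq
  · exact absurd e₁ (hmono _ _ h2₁ hlt).ne

/-- In characteristic two an element of order 3 of `PSL(2,q)` is moved. -/
theorem exists_moves_even {L : Type u} [Group L] {F : Type} [Field F] [CharP F 2]
    (e : L ≃* ProjectiveSpecialLinearGroup (Fin 2) F) : ∃ a w : L, orderOf w = 3 ∧ Moves a w := by
  haveI : Fact (Nat.Prime 3) := ⟨Nat.prime_three⟩
  let A : SpecialLinearGroup (Fin 2) F := ⟨!![0, 1; 1, 1], by simp [Matrix.det_fin_two, CharTwo.neg_eq]⟩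
  let J : SpecialLinearGroup (Fin 2) F := ⟨!![0, 1; 1, 0], by simp [Matrix.det_fin_two, CharTwo.neg_eq]⟩
  have h20 : (1 : F) + 1 = 0 := CharTwo.add_self_eq_zero 1
  have hA3 : A ^ 3 = 1 := by
    apply Subtype.ext
    rw [Matrix.SpecialLinearGroup.coe_pow, pow_succ, pow_two]
    show (!![0, 1; 1, 1] : Matrix (Fin 2) (Fin 2) F) * !![0, 1; 1, 1] * !![0, 1; 1, 1] = 1
    ext i j
    fin_cases i <;> fin_cases j <;> simp [Matrix.mul_apply, Fin.sum_univ_two, h20]
  have hJA : J * A = A * A * J := by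
    apply Subtype.ext
    show (!![0, 1; 1, 0] : Matrix (Fin 2) (Fin 2) F) * !![0, 1; 1, 1] =
      !![0, 1; 1, 1] * !![0, 1; 1, 1] * !![0, 1; 1, 0]
    ext i j
    fin_cases i <;> fin_cases j <;> simp [Matrix.mul_apply, Fin.sum_univ_two, h20]
  set w : L := e.symm (QuotientGroup.mk A) with hw
  set a : L := e.symm (QuotientGroup.mk J) with ha
  have hw3 : orderOf w = 3 := by
    refine orderOf_eq_prime (by rw [hw, ← map_pow, ← QuotientGroup.mk_pow, hA3, QuotientGroup.mk_one, map_one]) ?_
    intro h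
    rw [hw, MulEquiv.map_eq_one_iff, QuotientGroup.eq_one_iff, Matrix.SpecialLinearGroup.mem_center_iff] at h
    obtain ⟨c, -, hc⟩ := h
    have h01 := congrFun (congrFun hc 0) 1
    simp [A] at h01
  refine ⟨a, w, hw3, ?_⟩
  have hconj : a * w * a⁻¹ = w ^ 2 := by
    rw [mul_inv_eq_iff_eq_mul, ha, hw, ← map_pow, ← map_mul, ← map_mul, ← QuotientGroup.mk_pow,
      ← QuotientGroup.mk_mul, ← QuotientGroup.mk_mul, hJA, pow_two]
  refine ⟨fun h => ?_, hconj ▸ pow_mem (mem_zpowers w) 2⟩
  rw [hconj, pow_two, mul_eq_left] at h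
  rw [h, orderOf_one] at hw3
  norm_num at hw3

variable {G : Type u} [Group G] [Finite G] {S : Sylow 2 G} {t : G} {E E₀ : Subgroup G}

/-- The involutions centralising `x`, counted in the centraliser of `y` modulo the core. -/
theorem card_bar (C : Ctx S t E E₀) {x y : G} (hy : y ∈ fieldPart S)
    (hx : x ∈ centralizer ({y} : Set G)) (hxy : y ∈ zpowers x) :
    Nat.card {v : G // orderOf v = 2 ∧ v * x = x * v} =
      Nat.card {v : Quo (centralizer ({y} : Set G)) //
        orderOf v = 2 ∧ v * qm _ ⟨x, hx⟩ = qm _ ⟨x, hx⟩ * v} := by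
  have hcore : Balance.coreIn 2 (centralizer ({y} : Set G)) = zpowers y :=
    Cent.coreIn_centralizer_eq C.jr (fieldPart_le_centralizer S hy)
      (odd_orderOf_mem (odd_fieldPart S) hy)
  obtain ⟨j, rfl⟩ := mem_zpowers_iff.1 hxy
  rw [← card_involutions_subgroup (⟨x, hx⟩ : ↥(centralizer ({x ^ j} : Set G))) fun v _ hv =>
    mem_centralizer_singleton_iff.2 ((show Commute v x from hv).zpow_right j).eq]
  refine card_involutions_map (qm (centralizer ({x ^ j} : Set G))) (qm_surjective _) (fun k hk g => ?_) ?_ _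
  · have h1 := (qm_eq_one_iff k.2).1 hk
    rw [hcore] at h1
    obtain ⟨i, hi⟩ := mem_zpowers_iff.1 h1
    refine Subtype.ext ?_
    show (k : G) * g = g * k
    rw [← hi]
    exact (((show Commute (g : G) (x ^ j) from mem_centralizer_singleton_iff.1 g.2)).zpow_right i).symm.eq
  · have he : (qm (centralizer ({x ^ j} : Set G))).ker.map (centralizer ({x ^ j} : Set G)).subtype =
        Balance.coreIn 2 (centralizer ({x ^ j} : Set G)) := by
      ext z
      constructor
      · rintro ⟨k, hk, rfl⟩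
        exact (qm_eq_one_iff k.2).1 hk
      · intro hz
        exact ⟨⟨z, Balance.coreIn_le _ hz⟩, (qm_eq_one_iff _).2 hz, rfl⟩
    rw [← card_map_of_injective (K := (qm (centralizer ({x ^ j} : Set G))).ker)
      (centralizer ({x ^ j} : Set G)).subtype_injective, he]
    exact JRBal.odd_coreIn _

/-- A moved element of prime order of the centraliser modulo the core lifts. -/
theorem exists_moves_bar (C : Ctx S t E E₀) {y : G} (hy : y ∈ fieldPart S)
    {K : Subgroup (Quo (centralizer ({y} : Set G)))} {l : ℕ} (hl : l.Prime) {a' w' : ↥K}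
    (hw : orderOf w' = l) (h : Moves a' w') : ∃ a w : G, orderOf w = l ∧ Moves a w := by
  have hcore : Balance.coreIn 2 (centralizer ({y} : Set G)) = zpowers y :=
    Cent.coreIn_centralizer_eq C.jr (fieldPart_le_centralizer S hy)
      (odd_orderOf_mem (odd_fieldPart S) hy)
  obtain ⟨a, w, hwo, hwm⟩ := exists_moves_map (qm (centralizer ({y} : Set G))) (qm_surjective _)
    (fun k hk g => by
      have h1 := (qm_eq_one_iff k.2).1 hk
      rw [hcore] at h1
      obtain ⟨i, hi⟩ := mem_zpowers_iff.1 h1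
      refine Subtype.ext ?_
      show (k : G) * g = g * k
      rw [← hi]
      exact (((show Commute (g : G) y from mem_centralizer_singleton_iff.1 g.2)).zpow_right i).symm.eq)
    hl ((Subgroup.orderOf_coe w').trans hw) h.coe
  exact ⟨a, w, (Subgroup.orderOf_coe w).trans hwo, hwm.coe⟩

/-- In a group of Janko–Ree type with fused subgroups of prime order no field automorphism occurs. -/
theorem eq_of_fused (hK : PropKnown.{u}) (hO : PropOrder.{u}) (hJ : IsJR G) (hf : Fused G)
    (ht : orderOf t = 2) (hE : IsJRCentralizer t E E₀) : E = E₀ := by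
  haveI : Fact (Nat.Prime 2) := ⟨Nat.prime_two⟩
  have hL : PropKnownFacts.{u} := knownFacts BenderOne.propSplitFinal
  haveI := hJ.simple
  obtain ⟨S, hS⟩ := (IsPGroup.of_card (p := 2) (n := 1)
    (show Nat.card ↥(zpowers t) = 2 ^ 1 by rw [Nat.card_zpowers, ht, pow_one])).exists_le_sylow
  have htS : t ∈ (S : Subgroup G) := hS (mem_zpowers t)
  have C : Ctx S t E E₀ := ⟨hJ, ht, htS, hE⟩
  by_contra hne
  have hF : fieldPart S ≠ ⊥ := fun h => hne (C.eq_iff_fieldPart.2 h)
  obtain ⟨x, hgen⟩ : ∃ x : G, fieldPart S = zpowers x := by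
    obtain ⟨g, hg⟩ := (isCyclic_iff_exists_zpowers_eq_top).1 C.isCyclic_fieldPart
    refine ⟨g, ?_⟩
    have h := congrArg (Subgroup.map (fieldPart S).subtype) hg
    rw [MonoidHom.map_zpowers, ← MonoidHom.range_eq_map, range_subtype] at h
    exact h.symm
  have hxF : x ∈ fieldPart S := hgen ▸ mem_zpowers x
  have hx1 : x ≠ 1 := fun h => hF (by rw [hgen, h, zpowers_one_eq_bot])
  have hxS := fieldPart_le_centralizer S hxF
  have hxo := odd_orderOf_mem (odd_fieldPart S) hxF
  obtain ⟨F, iF, iF', F₀, iF₀, iF₀', ⟨eF⟩, hF8, hF5, hF₀8, hq, ⟨e₀⟩, hcase⟩ :=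
    Cent.fixed_cases hJ ht htS hE hxS hxo
  set l := (orderOf x).minFac with hl
  have hxo1 : orderOf x ≠ 1 := fun h => hx1 (orderOf_eq_one_iff.1 h)
  have hlp : l.Prime := Nat.minFac_prime hxo1
  have hlm : l ∣ orderOf x := Nat.minFac_dvd _
  have hl3 : 3 ≤ l := by
    have h1 : Odd l := hxo.of_dvd_nat hlm
    have := hlp.two_le
    obtain ⟨j, hj⟩ := h1
    omega
  haveI : Fact l.Prime := ⟨hlp⟩
  -- no element of order `l` is moved
  have hno : ∀ a w : G, orderOf w = l → ¬ Moves a w := by
    intro a w hw hm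
    have hzF : x ^ (orderOf x / l) ∈ fieldPart S := pow_mem hxF _
    have hzo : orderOf (x ^ (orderOf x / l)) = l := orderOf_pow_orderOf_div (orderOf_pos x).ne' hlm
    obtain ⟨b, hb⟩ := hf l hlp w _ hw hzo ⟨a, hm⟩
    exact not_moves C hzF hb
  -- in characteristic three no element of order 3 is moved
  have hno3 : ∀ i, Fintype.card F₀ = 3 ^ i → ∀ a w : G, orderOf w = 3 → ¬ Moves a w :=
    fun i hi a w hw => not_moves_three hf C eF (k := i * orderOf x) (by rw [hq, hi, pow_mul]) hF8 hw
  have hq3 : 3 ≤ Fintype.card F₀ := by omega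
  -- the number of involutions centralising `x` is divisible by `l`
  have hdiv : l ∣ Nat.card {v : G // orderOf v = 2 ∧ v * x = x * v} := by
    by_cases hd : x ^ l = 1
    · exact dvd_card_commute C hxF hlp (orderOf_eq_prime hd hx1)
    set d := x ^ l with hdd
    have hdF : d ∈ fieldPart S := pow_mem hxF _
    have hdS := fieldPart_le_centralizer S hdF
    have hdo := odd_orderOf_mem (odd_fieldPart S) hdF
    have hxd : x ∈ centralizer ({d} : Set G) :=
      mem_centralizer_singleton_iff.2 ((Commute.refl x).pow_right l).eq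
    have hord : orderOf d = orderOf x / l := orderOf_pow_of_dvd hlp.ne_zero hlm
    have hm0 : orderOf x / l ≠ 0 := hord ▸ (orderOf_pos d).ne'
    obtain ⟨F', iF1, iF1', F₁, iF₁, iF₁', ⟨eF'⟩, hF8', -, hF₁8, hq', ⟨e₁⟩, hcase'⟩ :=
      Cent.fixed_cases hJ ht htS hE hdS hdo
    have hF₁ : Fintype.card F₁ = Fintype.card F₀ ^ l := by
      refine Nat.pow_left_injective hm0 ?_
      show Fintype.card F₁ ^ (orderOf x / l) = (Fintype.card F₀ ^ l) ^ (orderOf x / l)
      rw [← hord, ← hq', ← pow_mul, hord, Nat.mul_div_cancel' hlm, ← hq]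
      refine card_inj (Nat.odd_iff.2 (by omega)) (Nat.odd_iff.2 (by omega)) ?_
      rw [← Nat.card_congr eF'.toEquiv, ← Nat.card_congr eF.toEquiv]
    have h27 : 27 ≤ Fintype.card F₁ := by
      rw [hF₁]
      calc 27 = 3 ^ 3 := by norm_num
        _ ≤ Fintype.card F₀ ^ 3 := Nat.pow_le_pow_left hq3 3
        _ ≤ Fintype.card F₀ ^ l := Nat.pow_le_pow_right (by omega) hl3
    rcases hcase' with ⟨h3', -⟩ | ⟨-, hodd⟩
    · omega
    obtain ⟨K, -, hKn, hKi, -, hTK, -, hKJ, hKE⟩ :=
      Cent.centralizer_large hJ ht htS hE hdS hdo hK hL hd hodd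
    haveI := hKn
    have hxbar : orderOf (qm _ (⟨x, hxd⟩ : ↥(centralizer ({d} : Set G)))) = l := by
      refine orderOf_eq_prime ?_ fun h => ?_
      · have e : (⟨x, hxd⟩ : ↥(centralizer ({d} : Set G))) ^ l =
            ⟨d, mem_centralizer_singleton_iff.2 rfl⟩ := Subtype.ext rfl
        rw [← map_pow, e, qm_eq_one_iff, Cent.coreIn_centralizer_eq hJ hdS hdo]
        exact mem_zpowers d
      · have h1 := (qm_eq_one_iff hxd).1 h
        rw [Cent.coreIn_centralizer_eq hJ hdS hdo] at h1
        have h2 := Nat.le_of_dvd (orderOf_pos d) (orderOf_dvd_of_mem_zpowers h1)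
        rw [hord] at h2
        exact absurd h2 (not_le.2 (Nat.div_lt_self (orderOf_pos x) hlp.one_lt))
    by_cases hxK : qm _ (⟨x, hxd⟩ : ↥(centralizer ({d} : Set G))) ∈ K
    · -- transfer in the component
      have hSC := Cent.sylow_le_centralizer hdS
      have htK := hTK (qm_mem_quoSylow hSC htS)
      set v : ↥K := ⟨_, htK⟩ with hv
      have hv2 : orderOf v = 2 := by
        refine orderOf_eq_prime (Subtype.ext ?_) fun h => ?_
        · show qm _ ⟨t, hSC htS⟩ ^ 2 = 1
          rw [← map_pow, ← map_one (qm _)]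
          exact congrArg _ (Subtype.ext (by
            show t ^ 2 = 1
            rw [pow_two, C.sq htS]))
        · exact qm_ne_one hSC htS C.ne_one (congrArg Subtype.val h)
      set T : Sylow 2 ↥K := (quoSylow hSC).subtype hTK with hT
      obtain ⟨E', E₀', h'⟩ := hKJ.centralizer v hv2
      have C' : Ctx T v E' E₀' := ⟨hKJ, hv2, by
        rw [hT, Sylow.coe_subtype, mem_subgroupOf]
        exact qm_mem_quoSylow hSC htS, h'⟩
      have hxT : (⟨_, hxK⟩ : ↥K) ∈ fieldPart T := by
        refine C'.mem_fieldPart (mem_centralizer_iff.2 fun p hp => Subtype.ext ?_) ?_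
        · rw [hT, Sylow.coe_subtype] at hp
          obtain ⟨s, hs, hse⟩ := (mem_quoSylow hSC).1 (mem_subgroupOf.1 hp)
          show (p : Quo (centralizer ({d} : Set G))) * qm _ ⟨x, hxd⟩ =
            qm _ ⟨x, hxd⟩ * (p : Quo (centralizer ({d} : Set G)))
          rw [← hse, ← map_mul, ← map_mul]
          exact congrArg _ (Subtype.ext (comm_fieldPart_sylow hxF hs).symm)
        · rw [Subgroup.orderOf_mk, hxbar]
          exact hxo.of_dvd_nat hlm
      rw [card_bar C hdF hxd ⟨l, by rw [hdd]; exact zpow_natCast x l⟩,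
        ← card_involutions_subgroup (⟨_, hxK⟩ : ↥K) fun w hw _ => mem_of_odd_index hKi hw]
      exact dvd_card_commute C' hxT hlp (by rw [Subgroup.orderOf_mk]; exact hxbar)
    · -- no field automorphism in the component
      exfalso
      have hdis : ∀ f ∈ zpowers (qm _ (⟨x, hxd⟩ : ↥(centralizer ({d} : Set G)))), f ∈ K → f = 1 := by
        intro f hf hfK
        by_contra hf1
        have h1 : zpowers f = zpowers (qm _ (⟨x, hxd⟩ : ↥(centralizer ({d} : Set G)))) := by
          refine Subgroup.eq_of_le_of_card_ge (zpowers_le.2 hf) (le_of_eq ?_)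
          rw [Nat.card_zpowers, Nat.card_zpowers, hxbar]
          refine ((hlp.eq_one_or_self_of_dvd _ ?_).resolve_left (fun h => hf1 (orderOf_eq_one_iff.1 h))).symm
          rw [← hxbar]
          exact orderOf_dvd_of_mem_zpowers hf
        exact hxK ((zpowers_le.2 hfK : zpowers f ≤ K) (h1 ▸ mem_zpowers _))
      rcases component_cases hO C hgen hdF hxd hTK hKJ hKE hdis e₁ (by omega) with
        ⟨⟨i, hi⟩, a, w, hw, hm⟩ | ⟨h45, -⟩
      · rw [hF₁] at hi
        obtain ⟨j, -, hj⟩ := (Nat.dvd_prime_pow Nat.prime_three).1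
          (hi ▸ dvd_pow_self (Fintype.card F₀) hlp.ne_zero : Fintype.card F₀ ∣ 3 ^ i)
        obtain ⟨a', w', hw', hm'⟩ := exists_moves_bar C hdF Nat.prime_three hw hm
        exact hno3 j hj a' w' hw' hm'
      · omega
  -- the possible numbers of involutions
  have hxx : x ∈ centralizer ({x} : Set G) := mem_centralizer_singleton_iff.2 rfl
  have hbar1 : qm _ (⟨x, hxx⟩ : ↥(centralizer ({x} : Set G))) = 1 := by
    rw [qm_eq_one_iff, Cent.coreIn_centralizer_eq hJ hxS hxo]
    exact mem_zpowers x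
  rcases hcase with ⟨h3, h12⟩ | ⟨h5, hodd⟩
  · obtain ⟨-, ⟨-, hle⟩ | ⟨K, -, -, -, -, -, hev, -⟩⟩ :=
      Cent.centralizer_small hJ ht htS hE hxS hxo hK hL hx1 h12
    · -- seven involutions
      have hN : Nat.card {v : G // orderOf v = 2 ∧ v * x = x * v} = 7 := by
        have e : {v : G | orderOf v = 2 ∧ v * x = x * v} = ((S : Subgroup G) : Set G) \ {1} := by
          ext v
          constructor
          · rintro ⟨hv, hvx⟩
            refine ⟨?_, fun h => by rw [Set.mem_singleton_iff.1 h, orderOf_one] at hv; norm_num at hv⟩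
            have hp := (IsPGroup.of_card (p := 2) (n := 1)
              (show Nat.card ↥(zpowers v) = 2 ^ 1 by rw [Nat.card_zpowers, hv, pow_one]))
            have h2 := hp.to_sup_of_normal_right' S.isPGroup'
              (zpowers_le.2 (hle (mem_centralizer_singleton_iff.2 hvx)))
            rw [← S.is_maximal' h2 le_sup_right]
            exact mem_sup_left (mem_zpowers v)
          · rintro ⟨hv, hv1⟩
            exact ⟨C.orderOf_mem hv hv1, (comm_fieldPart_sylow hxF hv).symm⟩
        show Nat.card ↥{v : G | orderOf v = 2 ∧ v * x = x * v} = 7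
        rw [e, Nat.card_coe_set_eq, Set.ncard_sdiff_singleton_of_mem (one_mem _), ← Nat.card_coe_set_eq]
        show Nat.card ↥(S : Subgroup G) - 1 = 7
        rw [hJ.card_sylow S]
      rw [hN] at hdiv
      have hl7 : l = 7 := (Nat.prime_dvd_prime_iff_eq hlp (by norm_num)).1 hdiv
      obtain ⟨a, w, hw, hm⟩ := exists_moves_seven C
      exact hno a w (hw.trans hl7.symm) hm
    · obtain ⟨n, F', _, _, hn, hF', ⟨e'⟩⟩ := hev
      haveI : CharP F' 2 := charP_of_card_eq_prime_pow hF'
      obtain ⟨a, w, hw, hm⟩ := exists_moves_even e'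
      obtain ⟨a', w', hw', hm'⟩ := exists_moves_bar C hxF Nat.prime_three hw hm
      exact hno3 1 (by rw [h3, pow_one]) a' w' hw' hm'
  · obtain ⟨K, -, hKn, hKi, -, hTK, -, hKJ, hKE⟩ :=
      Cent.centralizer_large hJ ht htS hE hxS hxo hK hL hx1 hodd
    haveI := hKn
    rcases component_cases hO C hgen hxF hxx hTK hKJ hKE
        (fun f hf _ => by rwa [hbar1, zpowers_one_eq_bot, mem_bot] at hf) e₀ hq3 with
      ⟨⟨i, hi⟩, a, w, hw, hm⟩ | ⟨h45, hJ1, hcount⟩
    · obtain ⟨a', w', hw', hm'⟩ := exists_moves_bar C hxF Nat.prime_three hw hm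
      exact hno3 i hi a' w' hw' hm'
    · have hc5 : Fintype.card F₀ = 5 := by omega
      have hN : Nat.card {v : G // orderOf v = 2 ∧ v * x = x * v} = 1463 := by
        have e0 := card_involutions_subgroup (1 : ↥K) fun w hw _ => mem_of_odd_index hKi hw
        rw [Subgroup.coe_one] at e0
        rw [card_bar C hxF hxx (mem_zpowers x), hbar1, ← e0]
        have h := Linear.two_mul_card_PSL_two_of_odd (F := F₀) (hc5 ▸ by decide)
        rw [h, hc5] at hcount
        have e : Nat.card {v : ↥K // orderOf v = 2 ∧ v * 1 = 1 * v} = Nat.card {v : ↥K // orderOf v = 2} :=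
          Nat.card_congr (Equiv.subtypeEquivRight fun v => by simp)
        omega
      rw [hN, show (1463 : ℕ) = 7 * (11 * 19) by norm_num] at hdiv
      have hl' : l = 7 ∨ l = 11 ∨ l = 19 := by
        rcases hlp.dvd_mul.1 hdiv with h | h
        · exact Or.inl ((Nat.prime_dvd_prime_iff_eq hlp (by norm_num)).1 h)
        · rcases hlp.dvd_mul.1 h with h | h
          · exact Or.inr (Or.inl ((Nat.prime_dvd_prime_iff_eq hlp (by norm_num)).1 h))
          · exact Or.inr (Or.inr ((Nat.prime_dvd_prime_iff_eq hlp (by norm_num)).1 h))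
      haveI := hKJ.simple
      obtain ⟨P⟩ : Nonempty (Sylow 2 ↥K) := inferInstance
      obtain ⟨a, w, hw, hm⟩ := exists_moves_of_simple (G := ↥K)
        (Known.not_comm_of_four hKJ.simple
          ((show 4 ∣ 8 by norm_num).trans (hKJ.card_sylow P ▸ Subgroup.card_subgroup_dvd_card _)))
        hlp (by rw [hJ1.2]; rcases hl' with h | h | h <;> rw [h] <;> norm_num)
        (by rw [hJ1.2]; rcases hl' with h | h | h <;> rw [h] <;> norm_num)
      obtain ⟨a', w', hw', hm'⟩ := exists_moves_bar C hxF hlp hw hm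
      exact hno a' w' hw' hm'

end Cfsg.Agent.Lib.EqualPrime77.Field
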