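import Cfsg.Agent.Lib.Walter.NoField.Local

/-!
# Fused subgroups of prime order: tools

`Fused G`: if some subgroup of prime order `l` has a non-trivial automiser, all have one.
An element of order `l` with a non-trivial automiser lifts through a central kernel; a transfer
argument shows that a field automorphism of prime order `l` in the centraliser of an involution
centralises a number of involutions divisible by `l`.

Owner: helper77.
-/

set_option autoImplicit false
set_option linter.style.haveILetI false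

universe u

namespace Cfsg.Agent.Lib.EqualPrime77.Field

open Subgroup

variable {G : Type u} [Group G]

/-- `a` induces a non-trivial automorphism of `⟨w⟩`. -/
def Moves (a w : G) : Prop := a * w * a⁻¹ ≠ w ∧ a * w * a⁻¹ ∈ zpowers w

/-- Non-trivial automisers of subgroups of prime order depend on the order only. -/
def Fused (G : Type u) [Group G] : Prop :=
  ∀ (l : ℕ), l.Prime → ∀ w z : G, orderOf w = l → orderOf z = l →
    (∃ a : G, Moves a w) → ∃ a : G, Moves a z

/-- A normal subgroup of a group with conjugate subgroups of equal prime order is fused. -/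
theorem fused_of_conj {X : Type u} [Group X] {M : Subgroup X} [hM : M.Normal]
    (h : ∀ (l : ℕ), l.Prime → ∀ a b : X, orderOf a = l → orderOf b = l →
      ∃ g : X, zpowers b = (zpowers a).map (MulAut.conj g).toMonoidHom) : Fused ↥M := by
  rintro l hl w z hw hz ⟨a, hne, hmem⟩
  obtain ⟨g, hg⟩ := h l hl (w : X) (z : X) ((Subgroup.orderOf_coe w).trans hw)
    ((Subgroup.orderOf_coe z).trans hz)
  have hconj : ∀ {k : X}, k ∈ zpowers (z : X) ↔ g⁻¹ * k * g ∈ zpowers (w : X) := by
    intro k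
    rw [hg]
    constructor
    · rintro ⟨y, hy, rfl⟩
      simpa [mul_assoc] using hy
    · intro hk
      exact ⟨_, hk, by simp [mul_assoc]⟩
  refine ⟨⟨g * (a : X) * g⁻¹, hM.conj_mem _ a.2 g⟩, fun he => ?_, ?_⟩
  · -- `g w g⁻¹` is a power of `z`
    obtain ⟨j, hj⟩ := mem_zpowers_iff.1
      (hconj.2 (by simp [mul_assoc]) : g * (w : X) * g⁻¹ ∈ zpowers (z : X))
    have hc : Commute (g * (a : X) * g⁻¹) (z : X) :=
      mul_inv_eq_iff_eq_mul.1 (congrArg Subtype.val he)
    have hc' := hc.zpow_right j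
    rw [hj] at hc'
    refine hne (Subtype.ext ?_)
    show (a : X) * w * (a : X)⁻¹ = w
    calc (a : X) * w * (a : X)⁻¹
        = g⁻¹ * ((g * (a : X) * g⁻¹) * (g * (w : X) * g⁻¹)) * g * (a : X)⁻¹ := by group
      _ = g⁻¹ * ((g * (w : X) * g⁻¹) * (g * (a : X) * g⁻¹)) * g * (a : X)⁻¹ := by rw [hc'.eq]
      _ = w := by group
  · have hzw : g⁻¹ * (z : X) * g ∈ zpowers (w : X) := hconj.1 (mem_zpowers _)
    obtain ⟨i, hi⟩ := mem_zpowers_iff.1 hzw
    obtain ⟨k, hk⟩ := mem_zpowers_iff.1 hmem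
    have hk' : (w : X) ^ k = (a : X) * w * (a : X)⁻¹ := by
      rw [← Subgroup.coe_zpow, hk]; rfl
    have hmem' : g * (a : X) * g⁻¹ * z * (g * (a : X) * g⁻¹)⁻¹ ∈ zpowers (z : X) := by
      rw [hconj, show g⁻¹ * (g * (a : X) * g⁻¹ * z * (g * (a : X) * g⁻¹)⁻¹) * g =
        (a : X) * (g⁻¹ * z * g) * (a : X)⁻¹ by group, ← hi, ← conj_zpow, ← hk', ← zpow_mul]
      exact zpow_mem (mem_zpowers _) _
    obtain ⟨t, ht⟩ := mem_zpowers_iff.1 hmem'
    exact mem_zpowers_iff.2 ⟨t, Subtype.ext (by rw [Subgroup.coe_zpow, ht]; rfl)⟩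

variable [Finite G]

/-- An element of order `l` with a non-trivial automiser, from one modulo a central subgroup. -/
theorem exists_moves {a y : G} {Z : Subgroup G} {k l : ℕ} (hl : l.Prime)
    (hZ : ∀ z ∈ Z, Commute z a ∧ Commute z y) (hrel : (y ^ k)⁻¹ * (a * y * a⁻¹) ∈ Z)
    (hyl : y ^ l ∈ Z) (hy : y ∉ Z) (hk : ¬ (l : ℤ) ∣ (k : ℤ) - 1) :
    ∃ w : G, orderOf w = l ∧ Moves a w := by
  -- pass to `l`-elements
  obtain ⟨e, s, hls, hN⟩ := Nat.exists_eq_pow_mul_and_not_dvd
    (show Nat.card G ≠ 0 from Nat.card_pos.ne') l hl.ne_one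
  have hsl : IsCoprime (s : ℤ) (l : ℤ) := by
    rw [Int.isCoprime_iff_nat_coprime]
    simpa using ((hl.coprime_iff_not_dvd).2 hls).symm
  have hpow : ∀ g : G, (g ^ s) ^ l ^ e = 1 := fun g => by
    rw [← pow_mul, mul_comm, ← hN, pow_card_eq_one']
  set v := y ^ s with hv
  have hvZ : v ∉ Z := fun h => by
    obtain ⟨i, j, hij⟩ := hsl
    apply hy
    rw [show y = v ^ i * (y ^ l) ^ j by
      rw [hv, ← zpow_natCast y s, ← zpow_natCast y l, ← zpow_mul, ← zpow_mul, ← zpow_add,
        mul_comm (s : ℤ), mul_comm (l : ℤ), hij, zpow_one]]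
    exact mul_mem (zpow_mem h _) (zpow_mem hyl _)
  set d := (y ^ k)⁻¹ * (a * y * a⁻¹) with hd
  have hvrel : a * v * a⁻¹ = v ^ k * d ^ s := by
    have e1 : a * y * a⁻¹ = y ^ k * d := by rw [hd]; group
    rw [hv, ← conj_pow, e1, (((hZ d hrel).2.symm).pow_left k).mul_pow, ← pow_mul, ← pow_mul,
      mul_comm k]
  obtain ⟨i, j, hij⟩ : IsCoprime ((k : ℤ) - 1) ((l ^ e : ℕ) : ℤ) := by
    push_cast
    exact (((Nat.prime_iff_prime_int.1 hl).coprime_iff_not_dvd).2 hk).symm.pow_right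
  set c := (d ^ s) ^ i with hc
  have hcZ : c ∈ Z := zpow_mem (pow_mem hrel _) _
  have hck : c ^ k = d ^ s * c := by
    have h1 : (d ^ s) ^ ((l ^ e : ℕ) : ℤ) = 1 := by rw [zpow_natCast]; exact hpow d
    rw [hc, ← zpow_natCast, ← zpow_mul, ← zpow_one_add,
      show i * (k : ℤ) = (1 + i) + ((l ^ e : ℕ) : ℤ) * (-j) by linear_combination hij, zpow_add,
      zpow_mul (d ^ s) ((l ^ e : ℕ) : ℤ), h1, one_zpow, mul_one]
  have hcomm : Commute c v := (hZ c hcZ).2.pow_right s
  set w := v * c with hw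
  have hwk : a * w * a⁻¹ = w ^ k := by
    rw [hw, show a * (v * c) * a⁻¹ = (a * v * a⁻¹) * (a * c * a⁻¹) by group, hvrel,
      (hZ c hcZ).1.symm.eq, mul_inv_cancel_right, hcomm.symm.mul_pow, hck, mul_assoc]
  have hwZ : w ∉ Z := fun h => hvZ (by
    rw [show v = w * c⁻¹ by rw [hw, mul_inv_cancel_right]]
    exact mul_mem h (inv_mem hcZ))
  have hwl : w ^ l = 1 := by
    have hmem : w ^ l ∈ Z := by
      rw [hw, hcomm.symm.mul_pow, hv, ← pow_mul, mul_comm, pow_mul]
      exact mul_mem (pow_mem hyl _) (pow_mem hcZ _)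
    have hfix : (w ^ l) ^ k = w ^ l := by
      rw [← pow_mul, mul_comm, pow_mul, ← hwk, conj_pow, (hZ _ hmem).1.symm.eq,
        mul_inv_cancel_right]
    have h1 : (w ^ l) ^ ((k : ℤ) - 1) = 1 := by
      rw [zpow_sub, zpow_natCast, zpow_one, hfix, mul_inv_cancel]
    have h2 : (w ^ l) ^ ((l ^ e : ℕ) : ℤ) = 1 := by
      have hv' : v ^ l ^ e = 1 := hpow y
      have hc' : c ^ l ^ e = 1 := by
        rw [hc, ← zpow_natCast, ← zpow_mul, mul_comm, zpow_mul, zpow_natCast, hpow, one_zpow]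
      rw [zpow_natCast, ← pow_mul, mul_comm, pow_mul, hw, hcomm.symm.mul_pow, hv', hc', one_mul,
        one_pow]
    calc w ^ l = (w ^ l) ^ ((i * ((k : ℤ) - 1)) + j * ((l ^ e : ℕ) : ℤ)) := by
          rw [hij, zpow_one]
      _ = 1 := by rw [zpow_add, mul_comm i, mul_comm j, zpow_mul, zpow_mul, h1, h2, one_zpow,
          one_zpow, one_mul]
  haveI : Fact l.Prime := ⟨hl⟩
  have hord : orderOf w = l := orderOf_eq_prime hwl fun h => hwZ (h ▸ one_mem _)
  refine ⟨w, hord, fun h => hk ?_, hwk ▸ pow_mem (mem_zpowers _) _⟩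
  rw [hwk] at h
  rw [← hord, orderOf_dvd_iff_zpow_eq_one, zpow_sub, zpow_natCast, zpow_one, h, mul_inv_cancel]

/-- In a simple group a Sylow subgroup of prime order has a non-trivial automiser. -/
theorem exists_moves_of_simple [IsSimpleGroup G] (hnc : ¬ IsMulCommutative G) {l : ℕ}
    (hl : l.Prime) (hd : l ∣ Nat.card G) (hd2 : ¬ l ^ 2 ∣ Nat.card G) :
    ∃ a w : G, orderOf w = l ∧ Moves a w := by
  haveI : Fact l.Prime := ⟨hl⟩
  obtain ⟨P⟩ : Nonempty (Sylow l G) := inferInstance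
  have hPc : Nat.card ↥(P : Subgroup G) = l := by
    rw [P.card_eq_multiplicity]
    have h1 : (Nat.card G).factorization l = 1 := by
      have h0 := (hl.dvd_iff_one_le_factorization Nat.card_pos.ne').1 hd
      have h2 : ¬ 2 ≤ (Nat.card G).factorization l := fun h =>
        hd2 ((hl.pow_dvd_iff_le_factorization Nat.card_pos.ne').2 h)
      omega
    rw [h1, pow_one]
  obtain ⟨w, hw⟩ := exists_prime_orderOf_dvd_card' (G := ↥(P : Subgroup G)) l (by rw [hPc])
  have hgen : (P : Subgroup G) = zpowers (w : G) := (Subgroup.eq_of_le_of_card_ge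
    (zpowers_le.2 w.2) (by rw [hPc, Nat.card_zpowers, Subgroup.orderOf_coe, hw])).symm
  by_contra hno
  push Not at hno
  have hP : normalizer ((P : Subgroup G) : Set G) ≤ centralizer ((P : Subgroup G) : Set G) := by
    intro a ha
    have hmem : a * (w : G) * a⁻¹ ∈ zpowers (w : G) := hgen ▸ (mem_normalizer_iff.1 ha _).1 w.2
    have hfix : a * (w : G) * a⁻¹ = w := by
      by_contra hne
      exact hno a w ((Subgroup.orderOf_coe w).trans hw) ⟨hne, hmem⟩
    refine mem_centralizer_iff.2 fun x hx => ?_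
    obtain ⟨i, rfl⟩ := mem_zpowers_iff.1 (hgen ▸ hx : x ∈ zpowers (w : G))
    have hcw : Commute a (w : G) := mul_inv_eq_iff_eq_mul.1 hfix
    exact (hcw.zpow_right i).eq.symm
  rcases Subgroup.Normal.eq_bot_or_eq_top (H := (MonoidHom.transferSylow P hP).ker) inferInstance
    with h | h
  · apply hnc
    haveI : IsMulCommutative ↥(P : Subgroup G) :=
      ⟨⟨fun a b => Subtype.ext ((mem_centralizer_iff.1 (hP (le_normalizer b.2)) a a.2))⟩⟩
    exact ⟨⟨fun a b => (MonoidHom.ker_eq_bot_iff _).1 h (by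
      rw [map_mul, map_mul]; exact mul_comm' _ _)⟩⟩
  · apply MonoidHom.not_dvd_card_ker_transferSylow P hP
    rw [h, Subgroup.card_top]
    exact hd

end Cfsg.Agent.Lib.EqualPrime77.Field
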