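import Cfsg.Agent.Lib.EqualPrime77.Field.Basic
import Cfsg.Agent.Lib.SameOrderConj77.Ree

/-!
# Fused subgroups of prime order: root elements are not real

If the field of `E₀` has characteristic three then the root elements are not inverted in `G`, so in
a fused group no element of order 3 is.

Owner: helper77.
-/

set_option autoImplicit false
set_option linter.style.haveILetI false

universe u

namespace Cfsg.Agent.Lib.EqualPrime77.Field

open Subgroup Walter Walter.NoField SameOrderConj77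
open Matrix (ProjectiveSpecialLinearGroup)

variable {G : Type u} [Group G] [Finite G] {S : Sylow 2 G} {t : G} {E E₀ : Subgroup G}

theorem exists_not_inverted (C : Ctx S t E E₀) {F : Type} [Field F] [Fintype F]
    (φ : ↥E₀ ≃* ProjectiveSpecialLinearGroup (Fin 2) F) {k : ℕ} (hF : Fintype.card F = 3 ^ k)
    (h8 : Fintype.card F % 8 = 3 ∨ Fintype.card F % 8 = 5) :
    ∃ r : G, orderOf r = 3 ∧ ∀ a : G, a * r * a⁻¹ ≠ r⁻¹ := by
  haveI : Fact (Nat.Prime 2) := ⟨Nat.prime_two⟩
  haveI : Fact (Nat.Prime 3) := ⟨Nat.prime_three⟩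
  haveI : CharP F 3 := charP_of_card_eq_prime_pow hF
  have h4 : Fintype.card F % 4 = 3 := by
    rcases Nat.even_or_odd' k with ⟨j, rfl | rfl⟩
    · rw [hF, pow_mul, Nat.pow_mod] at h8; norm_num at h8
    · rw [hF, pow_succ, pow_mul, Nat.mul_mod, Nat.pow_mod]; norm_num
  have h2 : (2 : F) ≠ 0 := PSLTwo.Sylow.two_ne_zero_of_odd (by omega)
  have hns : ∀ a : F, a * a ≠ -1 := fun a ha =>
    FiniteField.isSquare_neg_one_iff.1 ⟨a, ha.symm⟩ h4
  set p : ProjectiveSpecialLinearGroup (Fin 2) F := ReePSL.root (Multiplicative.ofAdd 1) with hp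
  have hpU : p ∈ ReePSL.U (F := F) := ⟨_, rfl⟩
  have hp1 : p ≠ 1 := fun h => one_ne_zero (α := F)
    (congrArg Multiplicative.toAdd (ReePSL.root_injective (h.trans (map_one ReePSL.root).symm)))
  set r : G := ((φ.symm p : ↥E₀) : G) with hr
  have hr0 : r ∈ E₀ := Subtype.prop _
  have hro : orderOf r = 3 := by
    rw [hr, Subgroup.orderOf_coe, MulEquiv.orderOf_eq]
    exact orderOf_eq_prime (ReePSL.pow_char_eq_one 3 hpU) hp1
  have hrt : r * t = t * r := C.mem_cent r (C.conf.le hr0)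
  refine ⟨r, hro, fun a ha => ?_⟩
  set D := centralizer ({r} : Set G) with hD
  have htD : t ∈ D := mem_centralizer_singleton_iff.2 hrt.symm
  have hto : orderOf (⟨t, htD⟩ : ↥D) = 2 := by rw [Subgroup.orderOf_mk]; exact C.ord
  obtain ⟨R, hR⟩ := (IsPGroup.of_card (p := 2) (n := 1)
    (show Nat.card ↥(zpowers (⟨t, htD⟩ : ↥D)) = 2 ^ 1 by
      rw [Nat.card_zpowers, hto, pow_one])).exists_le_sylow
  -- in `E₀` no involution centralises `r`
  have hE0 : ∀ e ∈ E, e * e = 1 → e * r = r * e → e = 1 := by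
    intro e he hee her
    have he0 : e ∈ E₀ := by
      haveI := C.cent.2.2.1
      have h1 : (⟨e, he⟩ : E) ^ (E₀.subgroupOf E).index ∈ E₀.subgroupOf E := Subgroup.pow_index_mem _ _
      obtain ⟨m, hm⟩ := C.cent.2.2.2.1
      rw [hm, pow_succ, pow_mul, show (⟨e, he⟩ : E) ^ 2 = 1 from Subtype.ext (by
        show e ^ 2 = 1
        rw [pow_two, hee]), one_pow, one_mul] at h1
      exact h1
    have h1 := ReePSL.eq_one_of_commute h2 hpU hp1 (g := φ ⟨e, he0⟩)
      (by rw [← map_mul, show (⟨e, he0⟩ : ↥E₀) * ⟨e, he0⟩ = 1 from Subtype.ext hee, map_one]) (by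
        rw [← φ.apply_symm_apply p, ← map_mul, ← map_mul]
        exact congrArg φ (Subtype.ext her))
    exact congrArg Subtype.val (φ.injective (h1.trans (map_one φ).symm))
  have hRt : ∀ w ∈ (R : Subgroup ↥D), (w : G) = 1 ∨ (w : G) = t := by
    intro w hw
    obtain ⟨P, hP⟩ := (R.2.map D.subtype).exists_le_sylow
    have hwP : (w : G) ∈ (P : Subgroup G) := hP ⟨w, hw, rfl⟩
    have htP : t ∈ (P : Subgroup G) := hP ⟨_, hR (mem_zpowers _), rfl⟩
    have hwt := IsJR.comm_mem C.jr P hwP htP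
    obtain ⟨e, he, hwe⟩ := C.conf.decomp _ hwt
    have her : (w : G) * r = r * w := mem_centralizer_singleton_iff.1 w.2
    rcases hwe with hwe | hwe
    · exact Or.inl (hwe.trans (hE0 e he (by rw [← hwe]; exact IsJR.sq_mem C.jr P hwP)
        (by rw [← hwe]; exact her)))
    · have htt : t * t = 1 := Walter66.sq_of_ord C.ord
      have hee : e = t * w := by rw [hwe, ← mul_assoc, htt, one_mul]
      have heP : e ∈ (P : Subgroup G) := hee ▸ mul_mem htP hwP
      have hce : Commute e r := hee ▸ (show Commute t r from hrt.symm).mul_left her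
      exact Or.inr (by rw [hwe, hE0 e he (IsJR.sq_mem C.jr P heP) hce.eq, mul_one])
  -- Frattini
  have hconjD : a * t * a⁻¹ ∈ D := by
    refine mem_centralizer_singleton_iff.2 ?_
    have h := ((show Commute t r from hrt.symm).map (MulAut.conj a).toMonoidHom).eq
    simp only [MulEquiv.toMonoidHom_eq_coe, MonoidHom.coe_coe, MulAut.conj_apply, ha] at h
    exact (Commute.inv_right_iff.1 h)
  have hao : orderOf (⟨a * t * a⁻¹, hconjD⟩ : ↥D) = 2 := by
    rw [Subgroup.orderOf_mk, Involutions.Basic.orderOf_conj_eq]; exact C.ord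
  obtain ⟨R', hR'⟩ := (IsPGroup.of_card (p := 2) (n := 1)
    (show Nat.card ↥(zpowers (⟨a * t * a⁻¹, hconjD⟩ : ↥D)) = 2 ^ 1 by
      rw [Nat.card_zpowers, hao, pow_one])).exists_le_sylow
  obtain ⟨c, hc⟩ := MulAction.exists_smul_eq ↥D R' R
  have hmem : c * ⟨a * t * a⁻¹, hconjD⟩ * c⁻¹ ∈ (R : Subgroup ↥D) := by
    rw [← hc, Sylow.coe_subgroup_smul]
    exact Subgroup.smul_mem_pointwise_smul (a := MulAut.conj c) _ _ (hR' (mem_zpowers _))
  set h := (c : G) * a with hh
  have hht : h * t = t * h := by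
    refine mul_inv_eq_iff_eq_mul.1 ?_
    rcases hRt _ hmem with e1 | e1
    · exact absurd (conj_eq_one_iff.1 (show h * t * h⁻¹ = 1 by
        rw [← e1, Subgroup.coe_mul, Subgroup.coe_mul, Subgroup.coe_inv, hh]; group)) C.ne_one
    · calc h * t * h⁻¹ = (c : G) * (a * t * a⁻¹) * (c : G)⁻¹ := by rw [hh]; group
        _ = t := e1
  have hinv : h * r * h⁻¹ = r⁻¹ := by
    have hcr : Commute (c : G) r := mem_centralizer_singleton_iff.1 c.2
    calc h * r * h⁻¹ = (c : G) * (a * r * a⁻¹) * (c : G)⁻¹ := by rw [hh]; group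
      _ = r⁻¹ := by rw [ha, hcr.inv_right.eq, mul_inv_cancel_right]
  obtain ⟨e, he, hhe⟩ := C.conf.decomp h hht
  have he' : e * r * e⁻¹ = r⁻¹ := by
    rcases hhe with hhe | hhe
    · rw [← hhe]; exact hinv
    · have htr : Commute t r := hrt.symm
      calc e * r * e⁻¹ = t⁻¹ * (h * r * h⁻¹) * t := by rw [hhe]; group
        _ = r⁻¹ := by rw [hinv, mul_assoc, ← htr.inv_right.eq, inv_mul_cancel_left]
  haveI := C.cent.2.2.1
  have hk := pow_odd_conj he' C.cent.2.2.2.1
  set n := (E₀.subgroupOf E).index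
  have hen : e ^ n ∈ E₀ := Subgroup.pow_index_mem (E₀.subgroupOf E) (⟨e, he⟩ : E)
  refine ReePSL.not_inverted hns hpU hp1 (φ ⟨e ^ n, hen⟩) ?_
  rw [← φ.apply_symm_apply p, ← map_inv, ← map_inv, ← map_mul, ← map_mul]
  exact congrArg φ (Subtype.ext hk)

/-- In a fused group no element of order 3 is inverted. -/
theorem not_moves_three (hf : Fused G) (C : Ctx S t E E₀) {F : Type} [Field F] [Fintype F]
    (φ : ↥E₀ ≃* ProjectiveSpecialLinearGroup (Fin 2) F) {k : ℕ} (hF : Fintype.card F = 3 ^ k)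
    (h8 : Fintype.card F % 8 = 3 ∨ Fintype.card F % 8 = 5) {a w : G} (hw : orderOf w = 3) :
    ¬ Moves a w := fun h => by
  obtain ⟨r, hr, hno⟩ := exists_not_inverted C φ hF h8
  obtain ⟨b, hne, hmem⟩ := hf 3 Nat.prime_three w r hw hr ⟨a, h⟩
  obtain ⟨i, hi⟩ := mem_zpowers_iff.1 hmem
  have hje : r ^ (i % 3).toNat = b * r * b⁻¹ := by
    rw [← zpow_natCast, Int.toNat_of_nonneg (Int.emod_nonneg _ (by norm_num)), ← hi]
    have h := zpow_mod_orderOf r i
    rwa [hr] at h
  have hj : (i % 3).toNat < 3 := by omega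
  generalize (i % 3).toNat = j at hje hj
  interval_cases j
  · rw [pow_zero] at hje
    rw [conj_eq_one_iff.1 hje.symm, orderOf_one] at hr
    norm_num at hr
  · exact hne (by rw [← hje, pow_one])
  · refine hno b ?_
    rw [← hje]
    refine eq_inv_of_mul_eq_one_left ?_
    have h3 := pow_orderOf_eq_one r
    rw [hr] at h3
    rw [← pow_succ]
    exact h3

end Cfsg.Agent.Lib.EqualPrime77.Field
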